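import Groth.Agent.H11Split.Regular
import Groth.Agent.H11Div.RegComp
import Groth.Agent.H29Slice.SmoothSection
import Groth.Agent.H7Blow.RegularChart

/-!
# Two regular ideals meeting regularly: adapted equations, and the chart of the blow-up
-/

set_option autoImplicit false
set_option linter.style.haveILetI false
universe u

open RingTheory.Sequence IsLocalRing MvPolynomial
open Groth.Agent.H17 Groth.Agent.H17.RegDescent
open Groth.Agent.H16Derived.KoszulPow

namespace Groth.Agent.H11StrictReg

theorem weaklyRegular_quot {A C : Type u} [CommRing A] [CommRing C] (φ : A →+* C)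
    (hφ : Function.Surjective φ) {rs gs : List A} (hker : RingHom.ker φ = Ideal.ofList rs)
    (h : IsWeaklyRegular A (rs ++ gs)) : IsWeaklyRegular C (gs.map φ) := by
  rw [isWeaklyRegular_append_iff] at h
  have htop : (Ideal.ofList rs • ⊤ : Submodule A A) = Ideal.ofList rs := by
    rw [smul_eq_mul, Ideal.mul_top]
  let e : (A ⧸ (Ideal.ofList rs • ⊤ : Submodule A A)) →+ C :=
    QuotientAddGroup.lift (Ideal.ofList rs • ⊤ : Submodule A A).toAddSubgroup φ.toAddMonoidHom fun a ha => by
      have ha' : a ∈ (Ideal.ofList rs • ⊤ : Submodule A A) := ha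
      rw [htop, ← hker] at ha'
      exact ha'
  have he : ∀ a : A, e (Submodule.Quotient.mk a) = φ a := fun a => rfl
  have hbij : Function.Bijective e := by
    refine ⟨(injective_iff_map_eq_zero e).2 fun x hx => ?_, fun c => ?_⟩
    · obtain ⟨a, rfl⟩ := Submodule.Quotient.mk_surjective _ x
      rw [he] at hx
      rw [Submodule.Quotient.mk_eq_zero, htop, ← hker]
      exact hx
    · obtain ⟨a, rfl⟩ := hφ c
      exact ⟨Submodule.Quotient.mk a, he a⟩
  refine ((AddEquiv.ofBijective e hbij).isWeaklyRegular_congr (List.forall₂_map_right_iff.mpr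
    (List.forall₂_same.mpr fun r _ x => ?_))).1 h.2
  obtain ⟨a, rfl⟩ := Submodule.Quotient.mk_surjective _ x
  show e (r • Submodule.Quotient.mk a) = φ r • e (Submodule.Quotient.mk a)
  rw [← Submodule.Quotient.mk_smul, he, he, smul_eq_mul, smul_eq_mul, map_mul]

/-- An ideal meets the ideal of a sequence regular modulo it in the product. -/
theorem inf_ofList_le {R S : Type u} [CommRing R] [CommRing S] (σ : R →+* S) (hσ : Function.Surjective σ)
    (q : List R) (hq : IsWeaklyRegular S (q.map σ)) :
    RingHom.ker σ ⊓ Ideal.ofList q ≤ RingHom.ker σ * Ideal.ofList q := by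
  induction q using List.reverseRecOn with
  | nil => simp
  | append_singleton l s ih =>
    rw [List.map_append, List.map_singleton, isWeaklyRegular_append_iff] at hq
    obtain ⟨hl, hs⟩ := hq
    intro x hx
    obtain ⟨hxI, hxq⟩ := Submodule.mem_inf.1 hx
    rw [Ideal.ofList_append, Ideal.ofList_singleton] at hxq ⊢
    obtain ⟨y, hy, z, hz, rfl⟩ := Submodule.mem_sup.1 hxq
    obtain ⟨b, rfl⟩ := Ideal.mem_span_singleton'.1 hz
    have hb : σ b ∈ Ideal.ofList (l.map σ) := by
      have h1 := ((isWeaklyRegular_cons_iff _ (σ s) []).1 hs).1.right_eq_zero_of_smul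
        (x := Submodule.Quotient.mk (σ b)) (by
          rw [← Submodule.Quotient.mk_smul, Submodule.Quotient.mk_eq_zero, smul_eq_mul, smul_eq_mul, Ideal.mul_top]
          have h2 : σ y + σ b * σ s = 0 := by rw [← map_mul, ← map_add]; exact RingHom.mem_ker.1 hxI
          rw [mul_comm, eq_neg_of_add_eq_zero_right h2, ← Ideal.map_ofList]
          exact neg_mem (Ideal.mem_map_of_mem σ hy))
      rwa [Submodule.Quotient.mk_eq_zero, smul_eq_mul, Ideal.mul_top] at h1
    rw [← Ideal.map_ofList, Ideal.mem_map_iff_of_surjective σ hσ] at hb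
    obtain ⟨c, hc, hcb⟩ := hb
    have hi : b - c ∈ RingHom.ker σ := by rw [RingHom.mem_ker, map_sub, hcb, sub_self]
    have h3 : y + c * s ∈ RingHom.ker σ := by
      have : y + c * s = (y + b * s) - (b - c) * s := by ring
      rw [this]
      exact sub_mem hxI (Ideal.mul_mem_right _ _ hi)
    rw [Ideal.mul_sup, show y + b * s = (y + c * s) + (b - c) * s by ring]
    exact Submodule.add_mem_sup (ih hl ⟨h3, add_mem hy (Ideal.mul_mem_right _ _ hc)⟩)
      (Ideal.mul_mem_mul hi (Ideal.mem_span_singleton_self s))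

theorem exists_lift_list {R S : Type u} [CommRing R] [CommRing S] (σ : R →+* S) (hσ : Function.Surjective σ)
    (I : Ideal R) : ∀ l : List S, (∀ x ∈ l, x ∈ I.map σ) → ∃ p : List R, (∀ x ∈ p, x ∈ I) ∧ p.map σ = l
  | [], _ => ⟨[], by simp, rfl⟩
  | a :: l, h => by
    obtain ⟨b, hb, rfl⟩ := (Ideal.mem_map_iff_of_surjective σ hσ).1 (h _ (List.mem_cons_self ..))
    obtain ⟨p, hp, rfl⟩ := exists_lift_list σ hσ I l fun x hx => h x (List.mem_cons_of_mem _ hx)
    exact ⟨b :: p, List.forall_mem_cons.2 ⟨hb, hp⟩, rfl⟩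

theorem irred_of_weaklyRegular {R : Type u} [CommRing R] {l : List R} (h : IsWeaklyRegular R l)
    (hne : Ideal.ofList l ≠ ⊤) : Irred l :=
  irred_of_quasi (quasi_of_seq (k := .koszul) (by decide) (H29Slice.isKoszulRegular_of_isWeaklyRegular h)) hne

/-- In a Noetherian local ring two regular ideals whose sum is regular modulo each of them have adapted equations. -/
theorem exists_adapted {R S T : Type u} [CommRing R] [IsLocalRing R] [IsNoetherianRing R] [CommRing S] [CommRing T]
    (σ : R →+* S) (hσ : Function.Surjective σ) (τ : R →+* T) (hτ : Function.Surjective τ)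
    (hIm : RingHom.ker τ ≤ maximalIdeal R) (hJm : RingHom.ker σ ≤ maximalIdeal R)
    {i j : List R} (hi : IsWeaklyRegular R i) (hIi : RingHom.ker τ = Ideal.ofList i)
    (hj : IsWeaklyRegular R j) (hJj : RingHom.ker σ = Ideal.ofList j)
    {s : List S} (hs : IsWeaklyRegular S s) (hs' : (RingHom.ker τ).map σ = Ideal.ofList s)
    {t : List T} (ht : IsWeaklyRegular T t) (ht' : (RingHom.ker σ).map τ = Ideal.ofList t) :
    ∃ g p q : List R, RingHom.ker τ = Ideal.ofList (g ++ p) ∧ RingHom.ker σ = Ideal.ofList (g ++ q) ∧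
      IsWeaklyRegular R (g ++ (p ++ q)) := by
  classical
  have hk : RegImm.Kind.quasi ≠ RegImm.Kind.regular := by decide
  set I := RingHom.ker τ with hI
  set J := RingHom.ker σ with hJ
  obtain ⟨p, hpI, rfl⟩ := exists_lift_list σ hσ I s fun x hx => hs' ▸ Ideal.subset_span hx
  obtain ⟨q, hqJ, rfl⟩ := exists_lift_list τ hτ J t fun x hx => ht' ▸ Ideal.subset_span hx
  have hp : Ideal.ofList p ≤ I := Ideal.span_le.2 hpI
  have hq : Ideal.ofList q ≤ J := Ideal.span_le.2 hqJ
  have hIJm : I ⊔ J ≤ maximalIdeal R := sup_le hIm hJm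
  have hjp := H11Div.isWeaklyRegular_append_of_surjective σ hσ j p hj hJj hs
  have hiq := H11Div.isWeaklyRegular_append_of_surjective τ hτ i q hi hIi ht
  -- the sum is generated by `J` and `p`, and by `I` and `q`
  have hKp : I ⊔ J = Ideal.ofList (j ++ p) := by
    rw [Ideal.ofList_append, ← hJj]
    refine le_antisymm (sup_le (fun x hx => ?_) le_sup_left) (sup_le le_sup_right (hp.trans le_sup_left))
    have h1 := Ideal.mem_map_of_mem σ hx
    rw [hs', ← Ideal.map_ofList, Ideal.mem_map_iff_of_surjective σ hσ] at h1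
    obtain ⟨y, hy, hyx⟩ := h1
    rw [← sub_add_cancel x y]
    exact Submodule.add_mem_sup (by rw [hJ, RingHom.mem_ker, map_sub, hyx, sub_self]) hy
  have hKq : I ⊔ J = Ideal.ofList (i ++ q) := by
    rw [Ideal.ofList_append, ← hIi]
    refine le_antisymm (sup_le le_sup_left (fun x hx => ?_)) (sup_le le_sup_left (hq.trans le_sup_right))
    have h1 := Ideal.mem_map_of_mem τ hx
    rw [ht', ← Ideal.map_ofList, Ideal.mem_map_iff_of_surjective τ hτ] at h1
    obtain ⟨y, hy, hyx⟩ := h1
    rw [← sub_add_cancel x y]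
    exact Submodule.add_mem_sup (by rw [hI, RingHom.mem_ker, map_sub, hyx, sub_self]) hy
  have hirp : Irred (j ++ p) := irred_of_weaklyRegular hjp (hKp ▸ ne_top_of_le_ne_top (maximalIdeal.isMaximal R).ne_top hIJm)
  have hirq : Irred (i ++ q) := irred_of_weaklyRegular hiq (hKq ▸ ne_top_of_le_ne_top (maximalIdeal.isMaximal R).ne_top hIJm)
  have hG : ∀ l : List R, (∀ x ∈ l, x ∈ I ⊓ J) → Ideal.ofList (l ++ (p ++ q)) ≤ I ⊔ J := fun l hl => by
    rw [Ideal.ofList_append, Ideal.ofList_append]
    exact sup_le ((Ideal.span_le.2 hl).trans (inf_le_left.trans le_sup_left))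
      (sup_le (hp.trans le_sup_left) (hq.trans le_sup_right))
  -- every element of `I` is, up to `p`, in `I ⊓ J`
  have hIdec : I ≤ (I ⊓ J) ⊔ Ideal.ofList p := fun x hx => by
    have h1 : x ∈ Ideal.ofList (j ++ p) := hKp ▸ Submodule.mem_sup_left hx
    rw [Ideal.ofList_append, ← hJj] at h1
    obtain ⟨y, hy, z, hz, rfl⟩ := Submodule.mem_sup.1 h1
    exact Submodule.add_mem_sup ⟨by simpa using sub_mem hx (hp hz), hy⟩ hz
  have hJdec : J ≤ (I ⊓ J) ⊔ Ideal.ofList q := fun x hx => by
    have h1 : x ∈ Ideal.ofList (i ++ q) := hKq ▸ Submodule.mem_sup_right hx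
    rw [Ideal.ofList_append, ← hIi] at h1
    obtain ⟨y, hy, z, hz, rfl⟩ := Submodule.mem_sup.1 h1
    exact Submodule.add_mem_sup ⟨hy, by simpa using sub_mem hx (hq hz)⟩ hz
  have hex : ∃ n, ∃ l : List R, l.length = n ∧ (∀ x ∈ l, x ∈ I ⊓ J) ∧ Ideal.ofList (l ++ (p ++ q)) = I ⊔ J := by
    obtain ⟨F, hF⟩ := IsNoetherian.noetherian (I ⊓ J)
    have hFl : Ideal.ofList F.toList = I ⊓ J :=
      (congrArg Ideal.span (Set.ext fun x => by simp)).trans hF
    refine ⟨_, F.toList, rfl, fun x hx => hFl ▸ Ideal.subset_span hx, ?_⟩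
    refine le_antisymm (hG _ fun x hx => hFl ▸ Ideal.subset_span hx) ?_
    rw [Ideal.ofList_append, Ideal.ofList_append, hFl]
    exact sup_le (hIdec.trans (sup_le_sup_left le_sup_left _)) (hJdec.trans (sup_le_sup_left le_sup_right _))
  obtain ⟨g, hglen, hgG, hgK⟩ := Nat.find_spec hex
  have hmin : ∀ l : List R, (∀ x ∈ l, x ∈ I ⊓ J) → Ideal.ofList (l ++ (p ++ q)) = I ⊔ J → g.length ≤ l.length :=
    fun l h1 h2 => hglen ▸ Nat.find_min' hex ⟨l, rfl, h1, h2⟩
  have hg : Ideal.ofList g ≤ I ⊓ J := Ideal.span_le.2 hgG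
  have hirr : Irred (g ++ (p ++ q)) := by
    intro l a m hsplit ha
    have hmemle : ∀ {M N : List R}, (∀ x ∈ M, x ∈ Ideal.ofList N) → Ideal.ofList M ≤ Ideal.ofList N :=
      fun h => Ideal.span_le.2 h
    rcases List.append_eq_append_iff.1 hsplit with ⟨l', rfl, hl'⟩ | ⟨l', hl', hm⟩
    · rcases List.append_eq_append_iff.1 hl' with ⟨l'', rfl, hq'⟩ | ⟨l'', hl'', hm'⟩
      · -- `a` is an entry of `q`
        refine hirq (i ++ l'') a m (by rw [hq']; simp) (Ideal.span_le.2 (fun x hx => ?_) ha)
        simp only [Set.mem_ofPred_eq, List.mem_append] at hx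
        have hIle : I ≤ Ideal.ofList ((i ++ l'') ++ m) := hIi.le.trans (Ideal.span_mono fun y hy => by
          simp only [Set.mem_ofPred_eq, List.mem_append]; exact Or.inl (Or.inl hy))
        rcases hx with (hx | hx | hx) | hx
        · exact hIle (hgG x hx).1
        · exact hIle (hpI x hx)
        · exact Ideal.subset_span (by simp [hx])
        · exact Ideal.subset_span (by simp [hx])
      · rcases l'' with _ | ⟨b, l''⟩
        · rw [List.nil_append] at hm'
          refine hirq i a m (by rw [← hm']) (Ideal.span_le.2 (fun x hx => ?_) ha)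
          simp only [Set.mem_ofPred_eq, List.mem_append] at hx
          rw [List.append_nil] at hl''
          have hIle : I ≤ Ideal.ofList (i ++ m) := hIi.le.trans (Ideal.span_mono fun y hy => by
            simp only [Set.mem_ofPred_eq, List.mem_append]; exact Or.inl hy)
          rcases hx with (hx | hx) | hx
          · exact hIle (hgG x hx).1
          · exact hIle (hpI x (hl'' ▸ hx))
          · exact Ideal.subset_span (by simp [hx])
        · -- `a` is an entry of `p`
          rw [List.cons_append] at hm'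
          obtain ⟨rfl, rfl⟩ := List.cons.inj hm'
          refine hirp (j ++ l') a l'' (by rw [hl'']; simp) (Ideal.span_le.2 (fun x hx => ?_) ha)
          simp only [Set.mem_ofPred_eq, List.mem_append] at hx
          have hJle : J ≤ Ideal.ofList ((j ++ l') ++ l'') := hJj.le.trans (Ideal.span_mono fun y hy => by
            simp only [Set.mem_ofPred_eq, List.mem_append]; exact Or.inl (Or.inl hy))
          rcases hx with (hx | hx) | hx | hx
          · exact hJle (hgG x hx).2
          · exact Ideal.subset_span (by simp [hx])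
          · exact Ideal.subset_span (by simp [hx])
          · exact hJle (hqJ x hx)
    · rcases l' with _ | ⟨b, l'⟩
      · -- `a` is the first entry of `p ++ q`
        rw [List.nil_append] at hm
        rw [List.append_nil] at hl'
        subst hl'
        rcases p with _ | ⟨b, p⟩
        · rw [List.nil_append] at hm
          refine hirq i a m (by rw [← hm]) (Ideal.span_le.2 (fun x hx => ?_) ha)
          simp only [Set.mem_ofPred_eq, List.mem_append] at hx
          have hIle : I ≤ Ideal.ofList (i ++ m) := hIi.le.trans (Ideal.span_mono fun y hy => by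
            simp only [Set.mem_ofPred_eq, List.mem_append]; exact Or.inl hy)
          rcases hx with hx | hx
          · exact hIle (hgG x hx).1
          · exact Ideal.subset_span (by simp [hx])
        · rw [List.cons_append] at hm
          obtain ⟨rfl, rfl⟩ := List.cons.inj hm
          refine hirp j a p rfl (Ideal.span_le.2 (fun x hx => ?_) ha)
          simp only [Set.mem_ofPred_eq, List.mem_append] at hx
          have hJle : J ≤ Ideal.ofList (j ++ p) := hJj.le.trans (Ideal.span_mono fun y hy => by
            simp only [Set.mem_ofPred_eq, List.mem_append]; exact Or.inl hy)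
          rcases hx with hx | hx | hx
          · exact hJle (hgG x hx).2
          · exact Ideal.subset_span (by simp [hx])
          · exact hJle (hqJ x hx)
      · -- `a` is an entry of `g`
        rw [List.cons_append] at hm
        obtain ⟨rfl, rfl⟩ := List.cons.inj hm
        subst hl'
        have := hmin (l ++ l') (fun x hx => hgG x (by simp at hx ⊢; tauto)) (le_antisymm
          (hG _ fun x hx => hgG x (by simp at hx ⊢; tauto)) (hgK ▸ hmemle fun x hx => by
            simp only [List.mem_append, List.mem_cons] at hx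
            rcases hx with (hx | rfl | hx) | hx
            · exact Ideal.subset_span (by simp [hx])
            · simpa only [List.append_assoc] using ha
            · exact Ideal.subset_span (by simp [hx])
            · exact Ideal.subset_span (by simp at hx ⊢; tauto)))
        simp at this
  have hKL : Ideal.ofList (i ++ q) = Ideal.ofList (g ++ (p ++ q)) := hKq.symm.trans hgK.symm
  have hlen : (g ++ (p ++ q)).length = (i ++ q).length :=
    le_antisymm (length_le_of_irred hirr hKL) (length_le_of_irred hirq hKL.symm)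
  have hseq := seq_change hk (quasi_of_seq (k := .koszul) (by decide) (H29Slice.isKoszulRegular_of_isWeaklyRegular hiq))
    hirr hKL hlen
  have hmax : Ideal.ofList (g ++ (p ++ q)) ≤ maximalIdeal R := hgK ▸ hIJm
  have hw := H29Slice.isWeaklyRegular_of_isQuasiRegular R (g ++ (p ++ q)).get (fun l => by
    rw [IsLocalRing.jacobson_eq_maximalIdeal _ bot_ne_top]
    exact hmax (Ideal.subset_span (List.get_mem _ l))) hseq
  rw [List.ofFn_get] at hw
  refine ⟨g, p, q, ?_, ?_, hw⟩
  · refine le_antisymm ?_ (by rw [Ideal.ofList_append]; exact sup_le (hg.trans inf_le_left) hp)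
    refine Submodule.le_of_le_smul_of_le_jacobson_bot (IsNoetherian.noetherian _)
      (IsLocalRing.jacobson_eq_maximalIdeal _ bot_ne_top).ge (fun x hx => ?_)
    have h1 : x ∈ Ideal.ofList (g ++ (p ++ q)) := hgK ▸ Submodule.mem_sup_left hx
    rw [← List.append_assoc, Ideal.ofList_append] at h1
    obtain ⟨y, hy, z, hz, rfl⟩ := Submodule.mem_sup.1 h1
    have hyI : y ∈ I := (by rw [Ideal.ofList_append]; exact sup_le (hg.trans inf_le_left) hp :
      Ideal.ofList (g ++ p) ≤ I) hy
    refine Submodule.add_mem_sup hy ?_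
    have := inf_ofList_le τ hτ q ht ⟨(add_mem_cancel_left hyI).1 hx, hz⟩
    rw [smul_eq_mul, mul_comm]
    exact Ideal.mul_mono le_rfl (hq.trans hJm) this
  · refine le_antisymm ?_ (by rw [Ideal.ofList_append]; exact sup_le (hg.trans inf_le_right) hq)
    refine Submodule.le_of_le_smul_of_le_jacobson_bot (IsNoetherian.noetherian _)
      (IsLocalRing.jacobson_eq_maximalIdeal _ bot_ne_top).ge (fun x hx => ?_)
    have h1 : x ∈ Ideal.ofList (g ++ (p ++ q)) := hgK ▸ Submodule.mem_sup_right hx
    rw [ofList_perm (List.Perm.append_left g List.perm_append_comm), ← List.append_assoc, Ideal.ofList_append] at h1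
    obtain ⟨y, hy, z, hz, rfl⟩ := Submodule.mem_sup.1 h1
    have hyJ : y ∈ J := (by rw [Ideal.ofList_append]; exact sup_le (hg.trans inf_le_right) hq :
      Ideal.ofList (g ++ q) ≤ J) hy
    refine Submodule.add_mem_sup hy ?_
    have := inf_ofList_le σ hσ p hs ⟨(add_mem_cancel_left hyJ).1 hx, hz⟩
    rw [smul_eq_mul, mul_comm]
    exact Ideal.mul_mono le_rfl (hp.trans hIm) this

end Groth.Agent.H11StrictReg
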