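import Groth.Agent.H29Slice.SmoothSection
import Groth.Agent.H7Blow.RegularChart
import Groth.Agent.H11Div.RegComp

/-!
# A regular sequence on a chart of the blow-up
-/

set_option autoImplicit false
set_option linter.style.haveILetI false
universe u

open RingTheory.Sequence IsLocalRing MvPolynomial
open Groth.Agent.H17 Groth.Agent.H16Derived.KoszulPow Groth.Agent.H7Blow

namespace Groth.Agent.H11StrictReg

/-- The exceptional locus of a chart is a polynomial ring over the centre, with explicit identification. -/
theorem exists_chart_mod {A : Type u} [CommRing A] {n : ℕ} (a : A) (c : Fin n → A) (H : Reg (a :: List.ofFn c)) :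
    ∃ f : (chartHom a c).range →+* MvPolynomial (Fin n) (A ⧸ Ideal.ofList (a :: List.ofFn c)),
      (∀ p, f ((chartHom a c).rangeRestrict p) = MvPolynomial.map (Ideal.Quotient.mk _) p) ∧
      Function.Surjective f ∧ RingHom.ker f = Ideal.span {algebraMap A (chartHom a c).range a} := by
  let I := Ideal.ofList (a :: List.ofFn c)
  let φ : MvPolynomial (Fin n) A →+* MvPolynomial (Fin n) (A ⧸ I) := MvPolynomial.map (Ideal.Quotient.mk I)
  let q := (chartHom a c).rangeRestrict
  have hq : Function.Surjective q := (chartHom a c).rangeRestrict_surjective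
  have hker : RingHom.ker q.toRingHom = Ideal.ofList (rel a c) :=
    (Ideal.ext fun x => ⟨fun h => congrArg Subtype.val h, fun h => Subtype.ext h⟩).trans (ker_chartHom a c H)
  have hφker : RingHom.ker φ = I.map C := by
    simp only [φ]
    rw [MvPolynomial.ker_map, Ideal.mk_ker]
  have hIq : ∀ x ∈ I, q (C x) ∈ Ideal.span {algebraMap A (chartHom a c).range a} := by
    intro x hx
    refine Submodule.span_induction (p := fun x _ => q (C x) ∈ Ideal.span {algebraMap A (chartHom a c).range a})
      ?_ ?_ ?_ ?_ hx
    · intro x hx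
      rcases List.mem_cons.1 hx with rfl | hx
      · rw [← MvPolynomial.algebraMap_eq, q.commutes]
        exact Ideal.mem_span_singleton_self _
      · obtain ⟨j, rfl⟩ := List.mem_ofFn.1 hx
        have h0 : q (C a * X j - C (c j)) = 0 := by
          have : C a * X j - C (c j) ∈ RingHom.ker q.toRingHom := by
            rw [hker]; exact Ideal.subset_span (List.mem_ofFn.2 ⟨j, rfl⟩)
          exact this
        rw [map_sub, sub_eq_zero, map_mul] at h0
        rw [← h0, ← MvPolynomial.algebraMap_eq, q.commutes]
        exact Ideal.mul_mem_right _ _ (Ideal.mem_span_singleton_self _)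
    · rw [map_zero, map_zero]; exact zero_mem _
    · intro x y _ _ hx hy
      rw [map_add, map_add]; exact add_mem hx hy
    · intro r x _ hx
      rw [smul_eq_mul, map_mul, map_mul]; exact Ideal.mul_mem_left _ _ hx
  have hJ : RingHom.ker q.toRingHom ≤ RingHom.ker φ := by
    rw [hker, hφker]
    refine Submodule.span_le.2 fun x hx => ?_
    obtain ⟨j, rfl⟩ := List.mem_ofFn.1 hx
    refine sub_mem (Ideal.mul_mem_right _ _ (Ideal.mem_map_of_mem C ?_)) (Ideal.mem_map_of_mem C ?_)
    · exact Ideal.subset_span (List.mem_cons_self (a := a) (l := List.ofFn c))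
    · exact Ideal.subset_span (List.mem_cons_of_mem _ (List.mem_ofFn.2 ⟨j, rfl⟩))
  obtain ⟨f, hf⟩ : ∃ f : (chartHom a c).range →+* MvPolynomial (Fin n) (A ⧸ I), ∀ p, f (q p) = φ p :=
    ⟨RingHom.liftOfSurjective q.toRingHom hq ⟨φ, hJ⟩, fun p =>
      RingHom.liftOfRightInverse_comp_apply q.toRingHom _ _ ⟨φ, hJ⟩ p⟩
  refine ⟨f, hf, fun y => ?_, le_antisymm (fun z hz => ?_) ?_⟩
  · obtain ⟨p, rfl⟩ := MvPolynomial.map_surjective _ Ideal.Quotient.mk_surjective y
    exact ⟨q p, hf p⟩
  · obtain ⟨p, rfl⟩ := hq z
    have hp : p ∈ RingHom.ker φ := by rw [RingHom.mem_ker, ← hf]; exact hz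
    rw [hφker] at hp
    refine (Ideal.map_le_iff_le_comap (f := C) (I := I)
      (K := (Ideal.span {algebraMap A (chartHom a c).range a}).comap q.toRingHom)).2 (fun x hx => hIq x hx) hp
  · rw [Ideal.span_le, Set.singleton_subset_iff]
    show f (algebraMap A (chartHom a c).range a) = 0
    rw [← q.commutes, hf, MvPolynomial.algebraMap_eq]
    show MvPolynomial.map (Ideal.Quotient.mk I) (C a) = 0
    have hmem : a ∈ I := Ideal.subset_span (List.mem_cons_self (a := a) (l := List.ofFn c))
    rw [map_C, Ideal.Quotient.eq_zero_iff_mem.2 hmem, map_zero]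

/-- Some of the variables followed by a regular sequence of constants. -/
theorem weaklyRegular_vars_consts {B : Type u} [CommRing B] (r m : ℕ) {v : List B} (hv : IsWeaklyRegular B v) :
    IsWeaklyRegular (MvPolynomial (Fin (r + m)) B)
      (List.ofFn (fun l : Fin r => (X (Fin.castAdd m l) : MvPolynomial (Fin (r + m)) B)) ++ v.map C) := by
  have hC : IsWeaklyRegular (MvPolynomial (Fin m) B) (v.map C) :=
    hv.of_flat (S := MvPolynomial (Fin m) B)
  have h1 := H29Slice.isWeaklyRegular_X_append (MvPolynomial (Fin m) B) r hC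
  let e : MvPolynomial (Fin (r + m)) B ≃ₐ[B] MvPolynomial (Fin r) (MvPolynomial (Fin m) B) :=
    (renameEquiv B finSumFinEquiv.symm).trans (sumAlgEquiv B (Fin r) (Fin m))
  refine (e.toRingEquiv.toAddEquiv.isWeaklyRegular_congr ?_).2 h1
  have he : ∀ a x, e (a • x) = e a • e x := fun a x => map_mul e a x
  rw [List.map_map]
  refine List.rel_append ?_ ?_
  · refine List.forall₂_iff_get.2 ⟨by simp, fun l h h' x => ?_⟩
    simp only [List.get_ofFn]
    refine (he _ x).trans ?_
    congr 1
    simp only [e, AlgEquiv.trans_apply, renameEquiv_apply, rename_X, finSumFinEquiv_symm_apply_castAdd]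
    simp
  · refine List.forall₂_map_right_iff.mpr (List.forall₂_map_left_iff.mpr (List.forall₂_same.mpr fun b _ x => ?_))
    refine (he _ x).trans ?_
    congr 1
    simp [e]

/-- On the chart at `a` the exceptional equation, the fractions of some of the other generators, and a sequence
regular on the centre form a regular sequence. -/
theorem chart_regular {A : Type u} [CommRing A] {r m : ℕ} (a : A) (c : Fin (r + m) → A)
    (H : Reg (a :: List.ofFn c)) (v : List A)
    (hv : IsWeaklyRegular (A ⧸ Ideal.ofList (a :: List.ofFn c)) (v.map (Ideal.Quotient.mk (Ideal.ofList (a :: List.ofFn c))))) :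
    IsWeaklyRegular (chartHom a c).range (algebraMap A (chartHom a c).range a ::
      (List.ofFn (fun l : Fin r => (chartHom a c).rangeRestrict (X (Fin.castAdd m l))) ++
        v.map (algebraMap A (chartHom a c).range))) := by
  obtain ⟨f, hf, hsurj, hker⟩ := exists_chart_mod a c H
  refine H11Div.isWeaklyRegular_append_of_surjective f hsurj [algebraMap A (chartHom a c).range a] _
    ((isWeaklyRegular_cons_iff _ _ _).2 ⟨isSMulRegular_algebraMap_chart a c, IsWeaklyRegular.nil _ _⟩)
    (by rw [hker, Ideal.ofList_singleton]) ?_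
  rw [List.append_eq, List.map_append, List.map_ofFn, List.map_map]
  have h1 : ⇑f ∘ (fun l : Fin r => (chartHom a c).rangeRestrict (X (Fin.castAdd m l))) =
      fun l : Fin r => (X (Fin.castAdd m l) : MvPolynomial (Fin (r + m)) _) :=
    funext fun l => (hf _).trans (map_X _ _)
  have h2 : ⇑f ∘ ⇑(algebraMap A (chartHom a c).range) = ⇑(C (σ := Fin (r + m))) ∘ ⇑(Ideal.Quotient.mk _) :=
    funext fun b => by
      simp only [Function.comp_apply]
      rw [← (chartHom a c).rangeRestrict.commutes, hf, MvPolynomial.algebraMap_eq, map_C]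
  rw [h1, h2, ← List.map_map]
  exact weaklyRegular_vars_consts r m hv

end Groth.Agent.H11StrictReg
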