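import Groth.Agent.H11StrictReg.Alg
import Groth.Agent.H11StrictReg.Chart
import Groth.Agent.H11Strict.ClosedImm
import Groth.Agent.H7Blow.PerfectBlowUp
import Groth.Agent.H13CInt.Spread
import Groth.Agent.H26Blow.Proper
import Groth.Agent.H29Slice.QuasiReg
import Groth.Agent.H17.RegDescent.Scheme

/-!
# The strict transform of a regular subscheme meeting the centre regularly is regularly immersed
-/

set_option autoImplicit false
set_option linter.style.haveILetI false
universe u

open CategoryTheory CategoryTheory.Limits AlgebraicGeometry TopologicalSpace RingTheory.Sequence IsLocalRing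
open Groth.Agent.H17 Groth.Agent.H17.RegDescent Groth.Agent.H16Derived.KoszulPow
open Groth.Agent.H7Blow Groth.Agent.H26Blow

namespace Groth.Agent.H11StrictReg

section Ring

theorem map_shape {A B C : Type*} (f : B → C) (x : B) {n : ℕ} (v : Fin n → B) (q : List A) (g : A → B) :
    (x :: (List.ofFn v ++ q.map g)).map f = f x :: (List.ofFn (fun l => f (v l)) ++ q.map fun r => f (g r)) := by
  simp [List.map_ofFn, Function.comp_def]

theorem flat_shape {A B C : Type u} [CommRing B] [CommRing C] (f : B →+* C) (hf : f.Flat) (g : A → B) (φ : A → C)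
    (hfg : ∀ r, f (g r) = φ r) (a : A) {n : ℕ} (v : Fin n → B) (q : List A)
    (h : IsWeaklyRegular B (g a :: (List.ofFn v ++ q.map g))) :
    IsWeaklyRegular C (φ a :: (List.ofFn (fun l => f (v l)) ++ q.map φ)) := by
  letI : Algebra B C := f.toAlgebra
  haveI : Module.Flat B C := hf
  obtain rfl : φ = fun r => f (g r) := funext fun r => (hfg r).symm
  rw [← map_shape f (g a) v q g]
  exact h.of_flat

/-- An ideal between a sequence and its saturation by a parameter regular modulo it. -/
theorem eq_ofList_of_saturated {S : Type u} [CommRing S] [IsLocalRing S] [IsNoetherianRing S] {e : S} {L : List S}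
    (h : IsWeaklyRegular S (e :: L)) (he : e ∈ maximalIdeal S) {K : Ideal S} (hKm : K ≤ maximalIdeal S)
    (hLK : Ideal.ofList L ≤ K) (hsat : ∀ z ∈ K, ∃ n : ℕ, e ^ n * z ∈ Ideal.ofList L) :
    K = Ideal.ofList L ∧ IsWeaklyRegular S L := by
  have hperm : (e :: L).Perm (L ++ [e]) := (List.perm_append_singleton e L).symm
  have h2 : IsWeaklyRegular S (L ++ [e]) :=
    h.of_perm_of_subset_jacobson_annihilator hperm fun r hr => by
      rw [IsLocalRing.jacobson_eq_maximalIdeal _ (by simp [Module.annihilator_eq_bot.2 inferInstance])]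
      rcases List.mem_cons.1 hr with rfl | hr
      · exact he
      · exact hKm (hLK (Ideal.subset_span hr))
  rw [isWeaklyRegular_append_iff, isWeaklyRegular_cons_iff] at h2
  refine ⟨le_antisymm (fun z hz => ?_) hLK, h2.1⟩
  obtain ⟨n, hn⟩ := hsat z hz
  clear hz
  induction n generalizing z with
  | zero => simpa using hn
  | succ n ih =>
    refine ih z ?_
    have h3 := h2.2.1.right_eq_zero_of_smul (x := Submodule.Quotient.mk (e ^ n * z)) (by
      rw [← Submodule.Quotient.mk_smul, Submodule.Quotient.mk_eq_zero, smul_eq_mul, smul_eq_mul, Ideal.mul_top,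
        ← mul_assoc, ← pow_succ']
      exact hn)
    rwa [Submodule.Quotient.mk_eq_zero, smul_eq_mul, Ideal.mul_top] at h3

variable {B A : Type u} [CommRing B] [IsNoetherianRing B] [CommRing A] [Algebra B A]

/-- An inclusion of ideals at a prime holds on a basic open. -/
theorem exists_kill (P : Ideal B) [P.IsPrime] [IsLocalization.AtPrime A P] (L L' : Ideal B)
    (hLL : L.map (algebraMap B A) ≤ L'.map (algebraMap B A)) : ∃ t ∉ P, ∀ c ∈ L, t * c ∈ L' := by
  obtain ⟨s, hs⟩ := IsNoetherian.noetherian L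
  choose! t ht htc using fun c (hc : c ∈ s) =>
    (IsLocalization.algebraMap_mem_map_algebraMap_iff P.primeCompl A L' c).mp
      (hLL (Ideal.mem_map_of_mem _ (hs ▸ Ideal.subset_span hc)))
  refine ⟨∏ c ∈ s, t c, fun h => ?_, fun c hc => ?_⟩
  · obtain ⟨c, hc, hcP⟩ := (Ideal.IsPrime.prod_mem_iff).mp h
    exact ht c hc hcP
  · rw [← hs] at hc
    induction hc using Submodule.span_induction with
    | mem c hc =>
      obtain ⟨d, hd⟩ := Finset.dvd_prod_of_mem t hc
      rw [hd, mul_comm (t c), mul_assoc]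
      exact Ideal.mul_mem_left _ _ (htc c hc)
    | zero => simp
    | add x y _ _ hx hy => rw [mul_add]; exact add_mem hx hy
    | smul r x _ hx => rw [smul_eq_mul, mul_left_comm]; exact Ideal.mul_mem_left _ _ hx

theorem map_eq_of_kill {L L' : Ideal B} {t s : B} (ht : ∀ c ∈ L, t * c ∈ L') (hd : t ∣ s)
    (T : Type u) [CommRing T] [Algebra B T] (hu : IsUnit (algebraMap B T s)) :
    L.map (algebraMap B T) ≤ L'.map (algebraMap B T) := by
  refine Ideal.map_le_iff_le_comap.2 fun c hc => ?_
  have := Ideal.mem_map_of_mem (algebraMap B T) (ht c hc)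
  rw [map_mul] at this
  exact (Ideal.unit_mul_mem_iff_mem _ (isUnit_of_dvd_unit (map_dvd _ hd) hu)).1 this

end Ring

section Scheme

variable {X : Scheme.{u}}

theorem stalkMap_germ_congr {A B : Scheme.{u}} {f g : A ⟶ B} (h : f = g) (a : A) (U : B.Opens) (hf : f a ∈ U)
    (hg : g a ∈ U) (s : Γ(B, U)) :
    f.stalkMap a (B.presheaf.germ U (f a) hf s) = g.stalkMap a (B.presheaf.germ U (g a) hg s) := by
  subst h; rfl

/-- Finitely many germs come from sections over one affine neighbourhood inside a given open. -/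
theorem exists_sections (x : X) : ∀ (l : List (X.presheaf.stalk x)) (O : X.Opens) (_ : x ∈ O),
    ∃ (U : X.affineOpens) (_ : U.1 ≤ O) (hx : x ∈ U.1) (s : List Γ(X, U.1)),
      s.map (X.presheaf.germ U.1 x hx).hom = l
  | [], O, hO => by
    obtain ⟨U, hU, hx, hle⟩ := exists_isAffineOpen_mem_and_subset hO
    exact ⟨⟨U, hU⟩, hle, hx, [], rfl⟩
  | a :: l, O, hO => by
    obtain ⟨V, hxV, b, rfl⟩ := X.presheaf.exists_germ_eq a
    obtain ⟨U, hle, hx, s, rfl⟩ := exists_sections x l (O ⊓ V) ⟨hO, hxV⟩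
    refine ⟨U, hle.trans inf_le_left, hx, (X.presheaf.map (homOfLE (hle.trans inf_le_right)).op b) :: s, ?_⟩
    rw [List.map_cons]
    congr 1
    exact X.presheaf.germ_res_apply (homOfLE (hle.trans inf_le_right)) x hx b

/-- The ideal of an ideal sheaf in the stalk does not depend on the affine neighbourhood. -/
theorem map_ideal_germ (I : X.IdealSheafData) (U V : X.affineOpens) (x : X) (hU : x ∈ U.1) (hV : x ∈ V.1) :
    (I.ideal U).map (X.presheaf.germ U.1 x hU).hom = (I.ideal V).map (X.presheaf.germ V.1 x hV).hom := by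
  obtain ⟨W, hW, hxW, hle⟩ := exists_isAffineOpen_mem_and_subset (U := U.1 ⊓ V.1) ⟨hU, hV⟩
  have key : ∀ (D : X.affineOpens) (hD : x ∈ D.1) (h : W ≤ D.1),
      (I.ideal D).map (X.presheaf.germ D.1 x hD).hom = (I.ideal ⟨W, hW⟩).map (X.presheaf.germ W x hxW).hom := by
    intro D hD h
    rw [← I.map_ideal (U := ⟨W, hW⟩) (V := D) h, Ideal.map_map]
    congr 1
    exact congrArg CommRingCat.Hom.hom (X.presheaf.germ_res (homOfLE h) x hxW).symm
  rw [key U hU (hle.trans inf_le_left), key V hV (hle.trans inf_le_right)]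

theorem ker_stalk_subschemeι (I : X.IdealSheafData) (d : I.subscheme) (V : X.affineOpens) (hd : I.subschemeι d ∈ V.1) :
    RingHom.ker (I.subschemeι.stalkMap d).hom = (I.ideal V).map (X.presheaf.germ V.1 (I.subschemeι d) hd).hom :=
  _root_.H29Blow.ker_stalkMap_subschemeι I d V hd

/-- Regular equations at a point of the subscheme of a regular ideal. -/
theorem exists_stalk_eqns {I : X.IdealSheafData} (hI : RegImm.IsRegularIdeal .regular I) (d : I.subscheme) :
    ∃ l : List (X.presheaf.stalk (I.subschemeι d)), IsWeaklyRegular (X.presheaf.stalk (I.subschemeι d)) l ∧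
      RingHom.ker (I.subschemeι.stalkMap d).hom = Ideal.ofList l := by
  obtain ⟨U, hxU, rs, hrs, hker⟩ := hI _ (by rw [← SetLike.mem_coe, ← Scheme.IdealSheafData.range_subschemeι]; exact ⟨d, rfl⟩)
  refine ⟨rs.map (X.presheaf.germ U.1 _ hxU).hom, ?_, ?_⟩
  · letI : Algebra Γ(X, U.1) (X.presheaf.stalk (I.subschemeι d)) := (X.presheaf.germ U.1 _ hxU).hom.toAlgebra
    haveI : Module.Flat Γ(X, U.1) (X.presheaf.stalk (I.subschemeι d)) := flat_germ U _ hxU
    exact hrs.toIsWeaklyRegular.of_flat
  · rw [ker_stalk_subschemeι I d U hxU, hker, Ideal.map_ofList]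

/-- Regular equations in the local ring of a subscheme of the inverse image of a regular ideal. -/
theorem exists_stalk_eqns_comap {I J : X.IdealSheafData}
    (hIJ : RegImm.IsRegularIdeal .regular (J.comap I.subschemeι)) (d : I.subscheme)
    (hd : I.subschemeι d ∈ J.support) (U : X.affineOpens) (hU : I.subschemeι d ∈ U.1) :
    ∃ l : List (I.subscheme.presheaf.stalk d), IsWeaklyRegular (I.subscheme.presheaf.stalk d) l ∧
      ((J.ideal U).map (X.presheaf.germ U.1 _ hU).hom).map (I.subschemeι.stalkMap d).hom = Ideal.ofList l := by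
  obtain ⟨V, hxV, rs, hrs, hker⟩ := hIJ d (by
    rw [← SetLike.mem_coe, Scheme.IdealSheafData.support_comap]; exact hd)
  refine ⟨rs.map (I.subscheme.presheaf.germ V.1 d hxV).hom, ?_, ?_⟩
  · letI : Algebra Γ(I.subscheme, V.1) (I.subscheme.presheaf.stalk d) := (I.subscheme.presheaf.germ V.1 d hxV).hom.toAlgebra
    haveI : Module.Flat Γ(I.subscheme, V.1) (I.subscheme.presheaf.stalk d) := flat_germ V _ hxV
    exact hrs.toIsWeaklyRegular.of_flat
  · let D : I.subscheme.affineOpens := ⟨I.subschemeι ⁻¹ᵁ U.1, U.2.preimage I.subschemeι⟩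
    rw [← Ideal.map_ofList, ← hker, map_ideal_germ (J.comap I.subschemeι) V D d hxV hU,
      _root_.H29Blow.ideal_comap J I.subschemeι U D le_rfl, Ideal.map_map, Ideal.map_map]
    congr 1
    rw [← CommRingCat.hom_comp, ← CommRingCat.hom_comp, germ_appLE I.subschemeι U.1 D.1 le_rfl d hU]

/-- A regular sequence generating the kernel on the stalk gives a regular immersion at the point. -/
theorem regularAt_of_stalk_ker [IsLocallyNoetherian X] {Y : Scheme.{u}} (i : Y ⟶ X) [IsClosedImmersion i] (y : Y)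
    (v : List (X.presheaf.stalk (i y))) (hw : IsWeaklyRegular (X.presheaf.stalk (i y)) v)
    (hker : RingHom.ker (i.stalkMap y).hom = Ideal.ofList v) :
    RegImm.IsRegularImmersionAt .regular i y := by
  obtain ⟨U₀, hU, hy, -⟩ := exists_isAffineOpen_mem_and_subset (x := i y) (U := ⊤) trivial
  let U : X.affineOpens := ⟨U₀, hU⟩
  have hcl : IsClosedImmersion (i ∣_ U.1) := IsZariskiLocalAtTarget.restrict (P := @IsClosedImmersion) inferInstance U.1
  let R := Γ(X, U.1)
  haveI : IsNoetherianRing R := IsLocallyNoetherian.component_noetherian U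
  let p := (U.2.primeIdealOf ⟨i y, hy⟩).asIdeal
  letI : Algebra R (X.presheaf.stalk (i y)) := (X.presheaf.germ U.1 (i y) hy).hom.toAlgebra
  haveI : IsLocalization.AtPrime (X.presheaf.stalk (i y)) p := U.2.isLocalization_stalk ⟨i y, hy⟩
  obtain ⟨t, ht, b, hb⟩ := H13CInt.exists_away_isWeaklyRegular p (RingHom.ker (i.app U.1).hom) v.get
    (by rw [List.ofFn_get]; exact hw) (by
      rw [Set.range_list_get]
      exact (H29Slice.ker_stalkMap_of_restrict i U hcl y hy).symm.trans hker)
  letI : Algebra R Γ(X, X.basicOpen t) := (X.presheaf.map (homOfLE (X.basicOpen_le t)).op).hom.toAlgebra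
  haveI : IsLocalization.Away t Γ(X, X.basicOpen t) := U.2.isLocalization_basicOpen t
  obtain ⟨h1, h2⟩ := hb Γ(X, X.basicOpen t)
  have hxt : i y ∈ X.basicOpen t := by
    rw [X.mem_basicOpen t (i y) hy]
    exact (IsLocalization.AtPrime.isUnit_to_map_iff (X.presheaf.stalk (i y)) p t).2 ht
  have H : IsPullback (𝟙 Y) i i (𝟙 X) := IsPullback.of_horiz_isIso ⟨by simp⟩
  obtain ⟨hcl', hker'⟩ := H29Slice.restrict_baseChange H U.2 hcl (U.2.basicOpen t) (e := X.basicOpen_le t)
  have hk : RingHom.ker (i.app (X.basicOpen t)).hom = Ideal.ofList (List.ofFn (algebraMap Γ(X, U.1) Γ(X, X.basicOpen t) ∘ b)) := by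
    rw [hker']
    simp only [Scheme.Hom.appLE, Scheme.Hom.id_app]
    exact h1.trans (congrArg Ideal.span (Set.ext fun r => List.mem_ofFn.symm))
  exact ⟨⟨X.basicOpen t, U.2.basicOpen t⟩, hxt, hcl', _, H29Slice.isRegular_of_mem i y hxt h2 hk, hk⟩

variable {X' : Scheme.{u}} {b : X' ⟶ X} {I : X.IdealSheafData}

/-- The local ring at a point of a chart is a flat algebra over the ring of the chart, compatibly with the base. -/
theorem exists_stalk_hom (U : X.affineOpens) (B : Type u) [CommRing B] [Algebra Γ(X, U.1) B]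
    (m : Spec (CommRingCat.of B) ⟶ X') [IsOpenImmersion m] (w : Spec (CommRingCat.of B)) (hx' : b (m w) ∈ U.1)
    (hmb : m ≫ b = Spec.map (CommRingCat.ofHom (algebraMap Γ(X, U.1) B)) ≫ U.2.fromSpec) :
    ∃ ψ : B →+* X'.presheaf.stalk (m w), ψ.Flat ∧
      ψ.comp (algebraMap Γ(X, U.1) B) = (X.presheaf.germ U.1 (b (m w)) hx' ≫ b.stalkMap (m w)).hom := by
  let σ : CommRingCat.of B ⟶ (Spec (CommRingCat.of B)).presheaf.stalk w :=
    (Scheme.ΓSpecIso (CommRingCat.of B)).inv ≫ (Spec (CommRingCat.of B)).presheaf.germ ⊤ w trivial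
  refine ⟨(σ ≫ inv (m.stalkMap w)).hom, ?_, ?_⟩
  · refine RingHom.Flat.comp ?_ (RingHom.Flat.of_bijective (ConcreteCategory.bijective_of_isIso (inv (m.stalkMap w))))
    refine RingHom.Flat.comp (RingHom.Flat.of_bijective
      (ConcreteCategory.bijective_of_isIso (Scheme.ΓSpecIso (CommRingCat.of B)).inv)) ?_
    exact flat_germ ⟨⊤, isAffineOpen_top _⟩ w trivial
  · have he : (⊤ : (Spec (CommRingCat.of B)).Opens) ≤ (m ≫ b) ⁻¹ᵁ U.1 := fun z _ =>
      show (m ≫ b) z ∈ U.1 by rw [hmb]; exact U.2.range_fromSpec.le ⟨_, rfl⟩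
    have h2 : ∀ (F : Spec (CommRingCat.of B) ⟶ X) (e : (⊤ : (Spec (CommRingCat.of B)).Opens) ≤ F ⁻¹ᵁ U.1),
        F = Spec.map (CommRingCat.ofHom (algebraMap Γ(X, U.1) B)) ≫ U.2.fromSpec →
        F.appLE U.1 ⊤ e = CommRingCat.ofHom (algebraMap Γ(X, U.1) B) ≫ (Scheme.ΓSpecIso (CommRingCat.of B)).inv := by
      rintro F e rfl
      rw [Scheme.Hom.comp_appLE, U.2.fromSpec_app_self, Category.assoc, Scheme.Hom.map_appLE]
      erw [← Scheme.Hom.app_eq_appLE]
      exact (Scheme.ΓSpecIso_inv_naturality _).symm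
    have key : (X.presheaf.germ U.1 (b (m w)) hx' ≫ b.stalkMap (m w)) ≫ m.stalkMap w =
        CommRingCat.ofHom (algebraMap Γ(X, U.1) B) ≫ σ := by
      have h4 := germ_appLE (m ≫ b) U.1 ⊤ he w trivial
      rw [h2 (m ≫ b) he hmb, Scheme.Hom.stalkMap_comp, Category.assoc] at h4
      exact (Category.assoc _ _ _).trans h4.symm
    have h3 := (IsIso.eq_comp_inv (m.stalkMap w)).2 key
    exact (congrArg CommRingCat.Hom.hom (h3.trans (Category.assoc _ _ _))).symm

/-- The local ring of the blow-up at a point over a chart with split generators `g ++ p` of the centre. -/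
theorem chart_stalk (hb : BlowUp.IsBlowUp b I) (U : X.affineOpens) (g p q : List Γ(X, U.1))
    (hIU : I.ideal U = Ideal.ofList (g ++ p)) (hreg : IsWeaklyRegular Γ(X, U.1) (g ++ (p ++ q))) (x' : X')
    (hx' : b x' ∈ U.1) :
    let φ : Γ(X, U.1) →+* X'.presheaf.stalk x' :=
      (X.presheaf.germ U.1 (b x') hx' ≫ b.stalkMap x').hom
    ∃ a ∈ g ++ p, (∀ y ∈ g ++ p, φ a ∣ φ y) ∧
      (a ∉ g → ∃ w : List (X'.presheaf.stalk x'), w.map (fun z => φ a * z) = g.map φ ∧
        IsWeaklyRegular (X'.presheaf.stalk x') (φ a :: (w ++ q.map φ))) := by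
  classical
  intro φ
  obtain ⟨⟨a, haI⟩, ha, m, hm, ⟨w, hw⟩, hmb⟩ := exists_chart hb U (g ++ p) hIU x' hx'
  subst hw
  haveI := hm
  let B := Alg (Ideal.ofList (g ++ p)) ⟨a, haI⟩
  obtain ⟨ψ, hflat, hψ⟩ := exists_stalk_hom U B m w hx' hmb
  replace hψ : ψ.comp (algebraMap Γ(X, U.1) B) = φ := hψ
  have hdvd : ∀ y ∈ g ++ p, φ a ∣ φ y := fun y hy => by
    rw [← hψ, RingHom.comp_apply, RingHom.comp_apply]
    refine map_dvd ψ ?_
    refine ⟨⟨IsLocalization.mk' (Localization.Away a) y ⟨a, Submonoid.mem_powers a⟩,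
      frac_mem (n := 1) (I := Ideal.ofList (g ++ p)) (a := ⟨a, haI⟩)
        (by rw [pow_one]; exact Ideal.subset_span hy) (by rw [pow_one]; exact IsLocalization.mk'_spec _ _ _)⟩, ?_⟩
    exact Subtype.ext (IsLocalization.mk'_spec' _ _ _).symm
  refine ⟨a, ha, hdvd, fun hag => ?_⟩
  obtain ⟨pre, post, hsplit⟩ := List.append_of_mem ((List.mem_append.1 ha).resolve_left hag)
  let c : Fin (g.length + (pre ++ post).length) → Γ(X, U.1) := Fin.append g.get (pre ++ post).get
  have hc : List.ofFn c = g ++ (pre ++ post) := by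
    rw [List.ofFn_fin_append, List.ofFn_get, List.ofFn_get]
  have hperm : (g ++ p).Perm (a :: List.ofFn c) := by
    rw [hc, hsplit]
    exact (List.Perm.append_left g List.perm_middle).trans List.perm_middle
  have hpre : IsWeaklyRegular Γ(X, U.1) (g ++ p) := by
    rw [← List.append_assoc, isWeaklyRegular_append_iff] at hreg
    exact hreg.1
  have H : Reg (a :: List.ofFn c) :=
    kEq_reg (kEq_of_perm hperm) ((reg_iff _).2 (H29Slice.isKoszulRegular_of_isWeaklyRegular hpre))
  have hq : IsWeaklyRegular (Γ(X, U.1) ⧸ Ideal.ofList (a :: List.ofFn c))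
      (q.map (Ideal.Quotient.mk (Ideal.ofList (a :: List.ofFn c)))) :=
    weaklyRegular_quot _ Ideal.Quotient.mk_surjective (Ideal.mk_ker.trans (ofList_perm hperm).symm)
      (by rwa [List.append_assoc])
  have halg : (chartHom a c).range = B := by
    show _ = Alg (Ideal.ofList (g ++ p)) ⟨a, haI⟩
    rw [range_chartHom, ← ofList_perm hperm]
    rfl
  have hchart := chart_regular a c H q hq
  let κ : (chartHom a c).range →ₐ[Γ(X, U.1)] B := Subalgebra.inclusion halg.le
  have hκ : Function.Bijective κ := ⟨Subalgebra.inclusion_injective _, fun z => ⟨⟨z.1, halg.ge z.2⟩, rfl⟩⟩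
  let χ : (chartHom a c).range →+* X'.presheaf.stalk (m w) := ψ.comp κ.toRingHom
  have hχA : ∀ r, χ (algebraMap _ _ r) = φ r := fun r => by
    show ψ (κ (algebraMap _ _ r)) = φ r
    rw [κ.commutes, ← hψ]
    rfl
  have hχflat : χ.Flat := RingHom.Flat.comp (RingHom.Flat.of_bijective (f := κ.toRingHom) hκ) hflat
  let v : Fin g.length → (chartHom a c).range := fun l => (chartHom a c).rangeRestrict (MvPolynomial.X (Fin.castAdd _ l))
  refine ⟨List.ofFn fun l => χ (v l), ?_, ?_⟩
  · rw [List.map_ofFn]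
    refine Eq.trans ?_ (congrArg (List.map φ) (List.ofFn_get g))
    rw [List.map_ofFn]
    refine congrArg List.ofFn (funext fun l => ?_)
    refine (congrArg (fun z => z * χ (v l)) (hχA a).symm).trans
      ((map_mul χ _ _).symm.trans ((congrArg χ ?_).trans (hχA _)))
    refine Subtype.ext ?_
    show algebraMap _ (Localization.Away a) a * chartHom a c (MvPolynomial.X (Fin.castAdd _ l)) = algebraMap _ _ (g.get l)
    rw [chartHom, MvPolynomial.aeval_X]
    refine (IsLocalization.mk'_spec' _ _ ⟨a, Submonoid.mem_powers a⟩).trans ?_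
    simp only [c, Fin.append_left]
  · exact flat_shape χ hχflat _ φ hχA a v q hchart

end Scheme

end Groth.Agent.H11StrictReg
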