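import Groth.Agent.H11StrictReg.Main

/-!
# Adapted equations on a neighbourhood
-/

set_option autoImplicit false
set_option linter.style.haveILetI false
universe u

open CategoryTheory CategoryTheory.Limits AlgebraicGeometry TopologicalSpace RingTheory.Sequence IsLocalRing
open Groth.Agent.H17 Groth.Agent.H17.RegDescent

namespace Groth.Agent.H11StrictReg

/-- A regular sequence at a prime is regular on a basic open. -/
theorem exists_regular_away {B A : Type u} [CommRing B] [IsNoetherianRing B] [CommRing A] [Algebra B A] (P : Ideal B)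
    [P.IsPrime] [IsLocalization.AtPrime A P] {n : ℕ} (b : Fin n → B)
    (h : IsWeaklyRegular A (List.ofFn (algebraMap B A ∘ b))) :
    ∃ t ∉ P, ∀ (T : Type u) [CommRing T] [Algebra B T], ∀ s : B, t ∣ s → IsLocalization.Away s T →
      IsWeaklyRegular T (List.ofFn (algebraMap B T ∘ b)) := by
  classical
  let J : Fin n → Ideal B := fun i => Ideal.span (b '' Set.Iio i)
  let K : Fin n → Ideal B := fun i => (J i).colon {b i}
  have hK : ∀ i c, c ∈ K i ↔ c * b i ∈ J i := fun i c => by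
    simp [K, Submodule.mem_colon_singleton]
  have hfreg := (H13CInt.isWeaklyRegular_ofFn_iff _).1 h
  have hKJ : ∀ i, ∃ t ∉ P, ∀ c ∈ K i, t * c ∈ J i := fun i => by
    refine exists_kill (A := A) P _ _ (Ideal.map_le_iff_le_comap.2 fun c hc => ?_)
    rw [Ideal.mem_comap, Ideal.map_span, ← Set.image_comp]
    refine hfreg i _ ?_
    have h1 := Ideal.mem_map_of_mem (algebraMap B A) ((hK i c).1 hc)
    rw [Ideal.map_span, ← Set.image_comp, map_mul] at h1
    exact h1
  choose t ht ht' using hKJ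
  refine ⟨∏ i, t i, fun hp => ?_, fun T _ _ s hs _ => ?_⟩
  · obtain ⟨i, -, hi⟩ := (Ideal.IsPrime.prod_mem_iff).mp hp
    exact ht i hi
  rw [H13CInt.isWeaklyRegular_ofFn_iff]
  intro i c hc
  rw [Set.image_comp, ← Ideal.map_span] at hc ⊢
  obtain ⟨⟨d, u⟩, hdu⟩ := IsLocalization.surj (Submonoid.powers s) c
  have hdu' : c * algebraMap B T u = algebraMap B T d := hdu
  have h1 : algebraMap B T (d * b i) ∈ (J i).map (algebraMap B T) := by
    rw [map_mul, ← hdu', mul_right_comm]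
    exact Ideal.mul_mem_right _ _ hc
  obtain ⟨r, hr, hr'⟩ :=
    (IsLocalization.algebraMap_mem_map_algebraMap_iff (Submonoid.powers s) T (J i) _).mp h1
  have h2 : algebraMap B T (r * d) ∈ (J i).map (algebraMap B T) :=
    map_eq_of_kill (ht' i) ((Finset.dvd_prod_of_mem t (Finset.mem_univ i)).trans hs) T
      (IsLocalization.Away.algebraMap_isUnit s) (Ideal.mem_map_of_mem _ ((hK i _).2 (by rwa [mul_assoc])))
  rw [map_mul, Ideal.unit_mul_mem_iff_mem _ (IsLocalization.map_units T ⟨r, hr⟩), ← hdu',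
    Ideal.mul_unit_mem_iff_mem _ (IsLocalization.map_units T u)] at h2
  exact h2

variable {X : Scheme.{u}}

/-- The local ring of a subscheme at a point, with its equations and those of the other ideal. -/
theorem exists_stalk_quot {I J : X.IdealSheafData} (hI : RegImm.IsRegularIdeal .regular I)
    (hIJ : RegImm.IsRegularIdeal .regular (J.comap I.subschemeι)) (x : X) (hxI : x ∈ I.support)
    (hxJ : x ∈ J.support) (U : X.affineOpens) (hU : x ∈ U.1) :
    ∃ (S : Type u) (_ : CommRing S) (σ : X.presheaf.stalk x →+* S), Function.Surjective σ ∧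
      RingHom.ker σ = (I.ideal U).map (X.presheaf.germ U.1 x hU).hom ∧ RingHom.ker σ ≤ maximalIdeal _ ∧
      (∃ l : List (X.presheaf.stalk x), IsWeaklyRegular (X.presheaf.stalk x) l ∧ RingHom.ker σ = Ideal.ofList l) ∧
      ∃ s : List S, IsWeaklyRegular S s ∧
        ((J.ideal U).map (X.presheaf.germ U.1 x hU).hom).map σ = Ideal.ofList s := by
  have hd : x ∈ Set.range I.subschemeι := by rw [Scheme.IdealSheafData.range_subschemeι]; exact hxI
  obtain ⟨d, rfl⟩ := hd
  exact ⟨_, inferInstance, (I.subschemeι.stalkMap d).hom, I.subschemeι.stalkMap_surjective d,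
    ker_stalk_subschemeι I d U hU, IsLocalRing.le_maximalIdeal (RingHom.ker_ne_top _), exists_stalk_eqns hI d,
    exists_stalk_eqns_comap hIJ d hxJ U hU⟩

/-- Adapted equations of two regular subschemes meeting regularly, on an affine neighbourhood of a common point. -/
theorem exists_adapted_chart [IsLocallyNoetherian X] {I J : X.IdealSheafData}
    (hI : RegImm.IsRegularIdeal .regular I) (hJ : RegImm.IsRegularIdeal .regular J)
    (hJI : RegImm.IsRegularIdeal .regular (I.comap J.subschemeι))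
    (hIJ : RegImm.IsRegularIdeal .regular (J.comap I.subschemeι)) (x : X) (hxI : x ∈ I.support)
    (hxJ : x ∈ J.support) :
    ∃ (U : X.affineOpens) (_ : x ∈ U.1) (g p q : List Γ(X, U.1)), I.ideal U = Ideal.ofList (g ++ p) ∧
      J.ideal U = Ideal.ofList (g ++ q) ∧ IsWeaklyRegular Γ(X, U.1) (g ++ (p ++ q)) := by
  obtain ⟨U₀, hU₀, hx₀, -⟩ := exists_isAffineOpen_mem_and_subset (x := x) (U := ⊤) trivial
  obtain ⟨T, hTr, τ, hτ, hτker, hτm, ⟨i, hi, hIi⟩, t, ht, ht'⟩ :=
    exists_stalk_quot hI hIJ x hxI hxJ ⟨U₀, hU₀⟩ hx₀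
  obtain ⟨S, hSr, σ, hσ, hσker, hσm, ⟨j, hj, hJj⟩, s, hs, hs'⟩ :=
    exists_stalk_quot hJ hJI x hxJ hxI ⟨U₀, hU₀⟩ hx₀
  rw [← hσker] at ht'
  rw [← hτker] at hs'
  obtain ⟨g, p, q, hgp, hgq, hreg⟩ := exists_adapted σ hσ τ hτ hτm hσm hi hIi hj hJj hs hs' ht ht'
  obtain ⟨U, hUle, hxU, L, hL⟩ := exists_sections x (g ++ (p ++ q)) ⊤ trivial
  obtain ⟨g', L', rfl, hg', hL'⟩ := List.map_eq_append_iff.1 hL
  obtain ⟨p', q', rfl, hp', hq'⟩ := List.map_eq_append_iff.1 hL'
  let A := Γ(X, U.1)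
  haveI : IsNoetherianRing A := IsLocallyNoetherian.component_noetherian U
  let P := (U.2.primeIdealOf ⟨x, hxU⟩).asIdeal
  letI : Algebra A (X.presheaf.stalk x) := (X.presheaf.germ U.1 x hxU).hom.toAlgebra
  haveI : IsLocalization.AtPrime (X.presheaf.stalk x) P := U.2.isLocalization_stalk ⟨x, hxU⟩
  have hIe : (I.ideal U).map (algebraMap A (X.presheaf.stalk x)) =
      (Ideal.ofList (g' ++ p')).map (algebraMap A (X.presheaf.stalk x)) := by
    rw [Ideal.map_ofList, List.map_append]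
    refine (map_ideal_germ I U ⟨U₀, hU₀⟩ x hxU hx₀).trans (hτker.symm.trans (hgp.trans ?_))
    rw [← hg', ← hp']
    rfl
  have hJe : (J.ideal U).map (algebraMap A (X.presheaf.stalk x)) =
      (Ideal.ofList (g' ++ q')).map (algebraMap A (X.presheaf.stalk x)) := by
    rw [Ideal.map_ofList, List.map_append]
    refine (map_ideal_germ J U ⟨U₀, hU₀⟩ x hxU hx₀).trans (hσker.symm.trans (hgq.trans ?_))
    rw [← hg', ← hq']
    rfl
  obtain ⟨t₁, ht₁, h₁⟩ := exists_kill P _ _ hIe.le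
  obtain ⟨t₂, ht₂, h₂⟩ := exists_kill P _ _ hIe.ge
  obtain ⟨t₃, ht₃, h₃⟩ := exists_kill P _ _ hJe.le
  obtain ⟨t₄, ht₄, h₄⟩ := exists_kill P _ _ hJe.ge
  obtain ⟨t₀, ht₀, h₀⟩ := exists_regular_away (A := X.presheaf.stalk x) P (g' ++ (p' ++ q')).get (by
    rw [← List.map_ofFn, List.ofFn_get]
    rw [List.map_append, List.map_append]
    rw [← hg', ← hp', ← hq'] at hreg
    exact hreg)
  let s₀ := t₀ * t₁ * t₂ * t₃ * t₄
  have hs₀ : s₀ ∉ P := by
    have hP : P.IsPrime := inferInstance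
    simp only [s₀, hP.mul_mem_iff_mem_or_mem]
    tauto
  letI : Algebra A Γ(X, X.basicOpen s₀) := (X.presheaf.map (homOfLE (X.basicOpen_le s₀)).op).hom.toAlgebra
  haveI : IsLocalization.Away s₀ Γ(X, X.basicOpen s₀) := U.2.isLocalization_basicOpen s₀
  have hu := IsLocalization.Away.algebraMap_isUnit (S := Γ(X, X.basicOpen s₀)) s₀
  have hxs : x ∈ X.basicOpen s₀ := by
    rw [X.mem_basicOpen s₀ x hxU]
    exact (IsLocalization.AtPrime.isUnit_to_map_iff (X.presheaf.stalk x) P s₀).2 hs₀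
  let ρ := algebraMap A Γ(X, X.basicOpen s₀)
  refine ⟨⟨X.basicOpen s₀, U.2.basicOpen s₀⟩, hxs, g'.map ρ, p'.map ρ, q'.map ρ, ?_, ?_, ?_⟩
  · rw [← List.map_append, ← Ideal.map_ofList, ← I.map_ideal (U := ⟨X.basicOpen s₀, U.2.basicOpen s₀⟩) (V := U) (X.basicOpen_le s₀)]
    exact le_antisymm (map_eq_of_kill h₁ (Dvd.intro (t₀ * t₂ * t₃ * t₄) (by ring)) _ hu)
      (map_eq_of_kill h₂ (Dvd.intro (t₀ * t₁ * t₃ * t₄) (by ring)) _ hu)
  · rw [← List.map_append, ← Ideal.map_ofList, ← J.map_ideal (U := ⟨X.basicOpen s₀, U.2.basicOpen s₀⟩) (V := U) (X.basicOpen_le s₀)]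
    exact le_antisymm (map_eq_of_kill h₃ (Dvd.intro (t₀ * t₁ * t₂ * t₄) (by ring)) _ hu)
      (map_eq_of_kill h₄ (Dvd.intro (t₀ * t₁ * t₂ * t₃) (by ring)) _ hu)
  · have := h₀ Γ(X, X.basicOpen s₀) s₀ (Dvd.intro (t₁ * t₂ * t₃ * t₄) (by ring)) inferInstance
    rw [← List.map_ofFn, List.ofFn_get, List.map_append, List.map_append] at this
    exact this

end Groth.Agent.H11StrictReg
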