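import Groth.Agent.H11StrictReg.Spread

/-!
# The strict transform is regularly immersed
-/

set_option autoImplicit false
set_option linter.style.haveILetI false
universe u

open CategoryTheory CategoryTheory.Limits AlgebraicGeometry TopologicalSpace RingTheory.Sequence IsLocalRing
open Groth.Agent.H17 Groth.Agent.H17.RegDescent

namespace Groth.Agent.H11StrictReg

variable {Z Z' Y' : Scheme.{u}} (𝓘W 𝓘Y : Z.IdealSheafData) (b : Z' ⟶ Z) (b' : Y' ⟶ 𝓘Y.subscheme) (k : Y' ⟶ Z')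

/-- The map from sections near the image to the local ring of the blow-up. -/
noncomputable abbrev pull (U : Z.affineOpens) (x' : Z') (hx : b x' ∈ U.1) : Γ(Z, U.1) →+* Z'.presheaf.stalk x' :=
  (Z.presheaf.germ U.1 (b x') hx ≫ b.stalkMap x').hom

theorem ker_eq_strictIdeal (hb : BlowUp.IsBlowUp b 𝓘W) (hb' : BlowUp.IsBlowUp b' (𝓘W.comap 𝓘Y.subschemeι))
    (hk : k ≫ b = b' ≫ 𝓘Y.subschemeι) :
    IsClosedImmersion k ∧ k.ker = H11Strict.strictIdeal 𝓘W 𝓘Y.subschemeι b := by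
  obtain ⟨⟨φ, hφ, hfac⟩, -⟩ := H11Strict.exists_strict 𝓘W 𝓘Y.subschemeι b hb b' hb' k hk
  haveI := hφ
  refine ⟨hfac ▸ inferInstance, ?_⟩
  rw [← hfac, Scheme.Hom.ker_comp_of_isIso, Scheme.IdealSheafData.ker_subschemeι]

/-- Equations of the subscheme vanish on the strict transform. -/
theorem pull_mem_ker (hk : k ≫ b = b' ≫ 𝓘Y.subschemeι) (U : Z.affineOpens) (y' : Y') (hx : b (k y') ∈ U.1)
    {r : Γ(Z, U.1)} (hr : r ∈ 𝓘Y.ideal U) : (k.stalkMap y') (pull b U (k y') hx r) = 0 := by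
  have hy : 𝓘Y.subschemeι (b' y') ∈ U.1 := by
    rw [← Scheme.Hom.comp_apply, ← hk, Scheme.Hom.comp_apply]; exact hx
  have h0 : 𝓘Y.subschemeι.stalkMap (b' y') (Z.presheaf.germ U.1 _ hy r) = 0 :=
    (ker_stalk_subschemeι 𝓘Y (b' y') U hy).ge (Ideal.mem_map_of_mem _ hr)
  have h1 := stalkMap_germ_congr hk y' U.1 hx hy r
  rw [Scheme.Hom.stalkMap_comp, Scheme.Hom.stalkMap_comp] at h1
  refine h1.trans ?_
  show b'.stalkMap y' (𝓘Y.subschemeι.stalkMap (b' y') (Z.presheaf.germ U.1 _ hy r)) = 0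
  rw [h0, map_zero]

/-- Sections vanishing on the strict transform are killed into the inverse image by powers of the exceptional
equations. -/
theorem exists_pow_mul_mem (hb : BlowUp.IsBlowUp b 𝓘W) (hb' : BlowUp.IsBlowUp b' (𝓘W.comap 𝓘Y.subschemeι))
    (hk : k ≫ b = b' ≫ 𝓘Y.subschemeι) (U : Z.affineOpens) (y' : Y') (hx : b (k y') ∈ U.1)
    {a : Γ(Z, U.1)} (ha : a ∈ 𝓘W.ideal U) (z : Z'.presheaf.stalk (k y'))
    (hz : k.stalkMap y' z = 0) :
    ∃ n : ℕ, pull b U (k y') hx a ^ n * z ∈ (𝓘Y.ideal U).map (pull b U (k y') hx) := by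
  obtain ⟨hcl, hker⟩ := ker_eq_strictIdeal 𝓘W 𝓘Y b b' k hb hb' hk
  haveI := hcl
  obtain ⟨V₀, hV₀, hxV, hle⟩ := exists_isAffineOpen_mem_and_subset (U := b ⁻¹ᵁ U.1) (x := k y') hx
  let V : Z'.affineOpens := ⟨V₀, hV₀⟩
  have hclV : IsClosedImmersion (k ∣_ V.1) := IsZariskiLocalAtTarget.restrict (P := @IsClosedImmersion) inferInstance V.1
  have hz' : z ∈ (k.ker.ideal V).map (Z'.presheaf.germ V.1 (k y') hxV).hom := by
    rw [Scheme.Hom.ker_apply, ← H29Slice.ker_stalkMap_of_restrict k V hclV y' hxV]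
    exact hz
  have hpull : ∀ r, pull b U (k y') hx r = Z'.presheaf.germ V.1 (k y') hxV ((b.appLE U.1 V.1 hle) r) := fun r =>
    (congrArg (fun φ => φ.hom r) (germ_appLE b U.1 V.1 hle (k y') hxV)).symm
  let e := (b.appLE U.1 V.1 hle) a
  have hsec : ∀ c ∈ k.ker.ideal V, ∃ n : ℕ, e ^ n * c ∈ ((𝓘Y.comap b).ideal V) := by
    intro c hc
    rw [hker, H11Strict.strictIdeal] at hc
    let ι' := (𝓘Y.subschemeι.ker.comap b).subschemeι
    let O := (𝓘W.comap b).support.compl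
    have hbasic : Z'.basicOpen e ≤ O := fun y hy =>
      _root_.H29Blow.basicOpen_disjoint_support (U := V) (by
        rw [_root_.H29Blow.ideal_comap 𝓘W b U V hle]
        exact Ideal.mem_map_of_mem _ ha) hy
    have hc' : ((ι' ⁻¹ᵁ O).ι ≫ ι').app V.1 c = 0 := by
      haveI := H11Strict.quasiCompact_strictHom 𝓘W 𝓘Y.subschemeι b hb.1
      haveI : QuasiCompact ((ι' ⁻¹ᵁ O).ι ≫ ι') := by
        rw [← morphismRestrict_ι]; exact H11Strict.quasiCompact_strictHom 𝓘W 𝓘Y.subschemeι b hb.1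
      rw [← RingHom.mem_ker, ← Scheme.Hom.ker_apply]
      rw [← morphismRestrict_ι]
      exact hc
    rw [Scheme.Hom.comp_app, Scheme.Opens.ι_app] at hc'
    have hle2 : (𝓘Y.subschemeι.ker.comap b).subscheme.basicOpen (ι'.app V.1 e) ≤
        (ι' ⁻¹ᵁ O).ι ''ᵁ ((ι' ⁻¹ᵁ O).ι ⁻¹ᵁ (ι' ⁻¹ᵁ V.1)) := by
      intro y hy
      have hyO : y ∈ ι' ⁻¹ᵁ O := by
        refine hbasic ?_
        rw [← Scheme.preimage_basicOpen] at hy
        exact hy
      exact ⟨⟨y, hyO⟩, ((𝓘Y.subschemeι.ker.comap b).subscheme.basicOpen_le (ι'.app V.1 e) hy : y ∈ ι' ⁻¹ᵁ V.1), rfl⟩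
    have h2 := (congrArg ((𝓘Y.subschemeι.ker.comap b).subscheme.presheaf.map (homOfLE hle2).op).hom hc').trans (map_zero _)
    obtain ⟨n, hn⟩ := exists_pow_mul_eq_zero_of_res_basicOpen_eq_zero_of_isAffineOpen _
      (V.2.preimage ι') (ι'.app V.1 c) (ι'.app V.1 e) (by
        change ((𝓘Y.subschemeι.ker.comap b).subscheme.presheaf.map _ ≫
          (𝓘Y.subschemeι.ker.comap b).subscheme.presheaf.map (homOfLE hle2).op).hom (ι'.app V.1 c) = 0 at h2
        rw [← Functor.map_comp] at h2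
        exact h2)
    refine ⟨n, ?_⟩
    rw [← map_pow, ← map_mul, ← RingHom.mem_ker, Scheme.IdealSheafData.ker_subschemeι_app] at hn
    rwa [Scheme.IdealSheafData.ker_subschemeι] at hn
  rw [show (𝓘Y.ideal U).map (pull b U (k y') hx) =
    ((𝓘Y.comap b).ideal V).map (Z'.presheaf.germ V.1 (k y') hxV).hom by
      rw [_root_.H29Blow.ideal_comap 𝓘Y b U V hle, Ideal.map_map]
      exact congrArg (fun f => Ideal.map f (𝓘Y.ideal U)) (RingHom.ext hpull)]
  rw [Ideal.map] at hz' ⊢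
  rw [hpull a]
  clear hz
  induction hz' using Submodule.span_induction with
  | mem z hz =>
    obtain ⟨c, hc, rfl⟩ := hz
    obtain ⟨n, hn⟩ := hsec c hc
    refine ⟨n, Ideal.subset_span ⟨_, hn, ?_⟩⟩
    rw [map_mul, map_pow]
  | zero => exact ⟨0, by simp⟩
  | add u v _ _ hu hv =>
    obtain ⟨n, hn⟩ := hu
    obtain ⟨m, hm⟩ := hv
    refine ⟨n + m, ?_⟩
    rw [mul_add, pow_add]
    exact add_mem (by rw [mul_assoc, mul_left_comm]; exact Ideal.mul_mem_left _ _ hn)
      (by rw [mul_assoc]; exact Ideal.mul_mem_left _ _ hm)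
  | smul c u _ hu =>
    obtain ⟨n, hn⟩ := hu
    exact ⟨n, by rw [smul_eq_mul, mul_left_comm]; exact Ideal.mul_mem_left _ _ hn⟩

/-- An exceptional equation is regular on the strict transform. -/
theorem isSMulRegular_pull (hb' : BlowUp.IsBlowUp b' (𝓘W.comap 𝓘Y.subschemeι))
    (hk : k ≫ b = b' ≫ 𝓘Y.subschemeι) (U : Z.affineOpens) (y' : Y') (hx : b (k y') ∈ U.1) {a : Γ(Z, U.1)}
    (hdvd : ∀ r ∈ 𝓘W.ideal U, pull b U (k y') hx a ∣ pull b U (k y') hx r) :
    IsSMulRegular (Y'.presheaf.stalk y') (k.stalkMap y' (pull b U (k y') hx a)) := by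
  have hcart := hb'.1
  rw [← Scheme.IdealSheafData.comap_comp, ← hk] at hcart
  obtain ⟨V, hyV, f, hf, hVf⟩ := hcart y'
  obtain ⟨D₀, hD₀, hyD, hle⟩ := exists_isAffineOpen_mem_and_subset (U := (k ≫ b) ⁻¹ᵁ U.1) (x := y') hx
  let D : Y'.affineOpens := ⟨D₀, hD₀⟩
  have hreg : IsSMulRegular (Y'.presheaf.stalk y') (Y'.presheaf.germ V.1 y' hyV f) := by
    letI : Algebra Γ(Y', V.1) (Y'.presheaf.stalk y') := (Y'.presheaf.germ V.1 y' hyV).hom.toAlgebra
    haveI : Module.Flat Γ(Y', V.1) (Y'.presheaf.stalk y') := flat_germ V _ hyV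
    have h1 : IsWeaklyRegular Γ(Y', V.1) [f] := (isWeaklyRegular_cons_iff _ f []).2
      ⟨fun u v huv => by
        have h0 : (u - v) * f = 0 := by rw [sub_mul, sub_eq_zero, mul_comm u, mul_comm v]; exact huv
        exact sub_eq_zero.1 ((mem_nonZeroDivisors_iff_right.1 hf) _ h0), IsWeaklyRegular.nil _ _⟩
    exact ((isWeaklyRegular_cons_iff _ _ _).1 (h1.of_flat (S := Y'.presheaf.stalk y'))).1
  have hmem : Y'.presheaf.germ V.1 y' hyV f ∈ Ideal.span {k.stalkMap y' (pull b U (k y') hx a)} := by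
    have h1 : Y'.presheaf.germ V.1 y' hyV f ∈ ((𝓘W.comap (k ≫ b)).ideal V).map (Y'.presheaf.germ V.1 y' hyV).hom :=
      Ideal.mem_map_of_mem _ (hVf ▸ Ideal.mem_span_singleton_self f)
    rw [map_ideal_germ (𝓘W.comap (k ≫ b)) V D y' hyV hyD, _root_.H29Blow.ideal_comap 𝓘W (k ≫ b) U D hle,
      Ideal.map_map] at h1
    refine Ideal.map_le_iff_le_comap.2 (fun r hr => ?_) h1
    rw [Ideal.mem_comap, Ideal.mem_span_singleton]
    have h2 : ((Y'.presheaf.germ D.1 y' hyD).hom.comp ((k ≫ b).appLE U.1 D.1 hle).hom) r =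
        k.stalkMap y' (pull b U (k y') hx r) := by
      refine (congrArg (fun φ => φ.hom r) (germ_appLE (k ≫ b) U.1 D.1 hle y' hyD)).trans ?_
      rw [Scheme.Hom.stalkMap_comp]
      rfl
    rw [h2]
    exact map_dvd (k.stalkMap y').hom (hdvd r hr)
  obtain ⟨c, hc⟩ := Ideal.mem_span_singleton.1 hmem
  intro u v huv
  refine hreg ?_
  simp only [smul_eq_mul] at huv ⊢
  rw [hc, mul_right_comm, huv, mul_right_comm]

/-- The strict transform of a regular subscheme meeting the centre regularly is regularly immersed. -/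
theorem isRegularImmersion [IsLocallyNoetherian Z] (hW : RegImm.IsRegularIdeal .regular 𝓘W)
    (hY : RegImm.IsRegularIdeal .regular 𝓘Y) (hXY : RegImm.IsRegularIdeal .regular (𝓘W.comap 𝓘Y.subschemeι))
    (hXW : RegImm.IsRegularIdeal .regular (𝓘Y.comap 𝓘W.subschemeι))
    (hb : BlowUp.IsBlowUp b 𝓘W) (hb' : BlowUp.IsBlowUp b' (𝓘W.comap 𝓘Y.subschemeι))
    (hk : k ≫ b = b' ≫ 𝓘Y.subschemeι) : RegImm.IsRegularImmersion .regular k := by
  obtain ⟨hcl, -⟩ := ker_eq_strictIdeal 𝓘W 𝓘Y b b' k hb hb' hk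
  haveI := hcl
  haveI : IsProper b := H26Blow.isProper_of_isBlowUp hb fun y => by
    obtain ⟨U, hU, hyU, -⟩ := exists_isAffineOpen_mem_and_subset (U := ⊤) (x := y) trivial
    haveI : IsNoetherianRing Γ(Z, U) := IsLocallyNoetherian.component_noetherian ⟨U, hU⟩
    exact ⟨⟨U, hU⟩, hyU, IsNoetherian.noetherian _⟩
  haveI : IsLocallyNoetherian Z' := LocallyOfFiniteType.isLocallyNoetherian b
  refine ⟨inferInstance, fun y' => ?_⟩
  have hxY : b (k y') ∈ 𝓘Y.support := by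
    rw [← SetLike.mem_coe, ← Scheme.IdealSheafData.range_subschemeι]
    exact ⟨b' y', by rw [← Scheme.Hom.comp_apply, ← hk, Scheme.Hom.comp_apply]⟩
  suffices h : ∃ v : List (Z'.presheaf.stalk (k y')), IsWeaklyRegular (Z'.presheaf.stalk (k y')) v ∧
      RingHom.ker (k.stalkMap y').hom = Ideal.ofList v by
    obtain ⟨v, hv, hkv⟩ := h
    exact regularAt_of_stalk_ker k y' v hv hkv
  have hKm : RingHom.ker (k.stalkMap y').hom ≤ maximalIdeal _ :=
    IsLocalRing.le_maximalIdeal (RingHom.ker_ne_top _)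
  by_cases hxW : b (k y') ∈ 𝓘W.support
  · obtain ⟨U, hxU, g, p, q, hIU, hJU, hreg⟩ := exists_adapted_chart hW hY hXY hXW _ hxW hxY
    obtain ⟨a, ha, hdvd, hw⟩ := chart_stalk hb U g p q hIU hreg (k y') hxU
    have haI : a ∈ 𝓘W.ideal U := hIU ▸ Ideal.subset_span ha
    have hdvd' : ∀ r ∈ 𝓘W.ideal U, pull b U (k y') hxU a ∣ pull b U (k y') hxU r := by
      intro r hr
      rw [hIU] at hr
      have hle : (Ideal.ofList (g ++ p)).map (pull b U (k y') hxU) ≤ Ideal.span {pull b U (k y') hxU a} := by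
        rw [Ideal.map_ofList]
        refine Ideal.span_le.2 fun s hs => ?_
        obtain ⟨t, ht, rfl⟩ := List.mem_map.1 hs
        exact Ideal.mem_span_singleton.2 (hdvd t ht)
      exact Ideal.mem_span_singleton.1 (hle (Ideal.mem_map_of_mem _ hr))
    have hr := isSMulRegular_pull 𝓘W 𝓘Y b b' k hb' hk U y' hxU hdvd'
    have hag : a ∉ g := fun hag => by
      have h0 := pull_mem_ker 𝓘Y b b' k hk U y' hxU
        (show a ∈ 𝓘Y.ideal U from hJU ▸ Ideal.subset_span (List.mem_append_left _ hag))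
      rw [h0] at hr
      exact zero_ne_one (α := Y'.presheaf.stalk y') (hr (by simp))
    obtain ⟨w, hwg, hwreg⟩ := hw hag
    have he : pull b U (k y') hxU a ∈ maximalIdeal _ := by
      show (b.stalkMap (k y')) (Z.presheaf.germ U.1 _ hxU a) ∈ maximalIdeal _
      rw [IsLocalRing.mem_maximalIdeal]
      have h1 : Z.presheaf.germ U.1 _ hxU a ∈ maximalIdeal (Z.presheaf.stalk (b (k y'))) := by
        rw [IsLocalRing.mem_maximalIdeal]
        intro hu
        rw [← Z.mem_basicOpen a _ hxU] at hu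
        exact _root_.H29Blow.basicOpen_disjoint_support haI hu hxW
      exact map_nonunit (b.stalkMap (k y')).hom _ h1
    have hgmem : ∀ r ∈ g ++ q, k.stalkMap y' (pull b U (k y') hxU r) = 0 := fun r hr =>
      pull_mem_ker 𝓘Y b b' k hk U y' hxU (hJU ▸ Ideal.subset_span hr)
    have hLK : Ideal.ofList (w ++ q.map (pull b U (k y') hxU)) ≤ RingHom.ker (k.stalkMap y').hom := by
      refine Ideal.span_le.2 fun s hs => ?_
      rcases List.mem_append.1 hs with hs | hs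
      · have h1 : pull b U (k y') hxU a * s ∈ g.map (pull b U (k y') hxU) := hwg ▸ List.mem_map_of_mem hs
        obtain ⟨t, ht, hts⟩ := List.mem_map.1 h1
        have h2 := hgmem t (List.mem_append_left _ ht)
        rw [hts, map_mul] at h2
        exact hr (h2.trans (mul_zero _).symm)
      · obtain ⟨t, ht, rfl⟩ := List.mem_map.1 hs
        exact hgmem t (List.mem_append_right _ ht)
    have hJL : (𝓘Y.ideal U).map (pull b U (k y') hxU) ≤ Ideal.ofList (w ++ q.map (pull b U (k y') hxU)) := by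
      rw [hJU, Ideal.map_ofList]
      refine Ideal.span_le.2 fun s hs => ?_
      obtain ⟨t, ht, rfl⟩ := List.mem_map.1 hs
      rcases List.mem_append.1 ht with ht | ht
      · obtain ⟨u, hu, hu'⟩ := List.mem_map.1 (hwg.symm ▸ List.mem_map_of_mem (f := pull b U (k y') hxU) ht)
        rw [← hu']
        exact Ideal.mul_mem_left _ _ (Ideal.subset_span (List.mem_append_left _ hu))
      · exact Ideal.subset_span (List.mem_append_right _ (List.mem_map_of_mem ht))
    obtain ⟨hK, hL⟩ := eq_ofList_of_saturated hwreg he hKm hLK fun z hz => by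
      obtain ⟨n, hn⟩ := exists_pow_mul_mem 𝓘W 𝓘Y b b' k hb hb' hk U y' hxU haI z hz
      exact ⟨n, hJL hn⟩
    exact ⟨_, hL, hK⟩
  · obtain ⟨U₀, hxU₀, rs, hrs, hker⟩ := hY _ hxY
    obtain ⟨U₁, hU₁, hxU₁, hle⟩ := exists_isAffineOpen_mem_and_subset (U := U₀.1 ⊓ 𝓘W.support.compl)
      ⟨hxU₀, hxW⟩
    let U : Z.affineOpens := ⟨U₁, hU₁⟩
    obtain ⟨hreg, hJU⟩ := H11Div.chart_restrict 𝓘Y.subschemeι U₀ U (hle.trans inf_le_left) hrs.toIsWeaklyRegular
      (by rw [Scheme.IdealSheafData.ker_subschemeι]; exact hker)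
    rw [Scheme.IdealSheafData.ker_subschemeι] at hJU
    haveI := _root_.H29Blow.isIso_morphismRestrict hb 𝓘W.support.compl (fun _ h => h)
    haveI : IsIso (b.stalkMap (k y')) := by
      have h : IsIso ((b ∣_ 𝓘W.support.compl).stalkMap ⟨k y', hxW⟩) := inferInstance
      exact ((MorphismProperty.isomorphisms CommRingCat).arrow_mk_iso_iff
        (morphismRestrictStalkMap b 𝓘W.support.compl ⟨k y', hxW⟩)).1 h
    refine ⟨(rs.map (Z.presheaf.map (homOfLE (hle.trans inf_le_left)).op).hom).map (pull b U (k y') hxU₁), ?_,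
      le_antisymm (fun z hz => ?_) ?_⟩
    · letI : Algebra Γ(Z, U.1) (Z'.presheaf.stalk (k y')) := (pull b U (k y') hxU₁).toAlgebra
      haveI : Module.Flat Γ(Z, U.1) (Z'.presheaf.stalk (k y')) :=
        RingHom.Flat.comp (flat_germ U _ hxU₁)
          (RingHom.Flat.of_bijective (ConcreteCategory.bijective_of_isIso (b.stalkMap (k y'))))
      exact hreg.of_flat
    · have h1 : (1 : Γ(Z, U.1)) ∈ 𝓘W.ideal U := by
        rw [← Ideal.eq_top_iff_one]
        by_contra hne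
        obtain ⟨m, hm, hmle⟩ := Ideal.exists_le_maximal _ hne
        have h2 : U.2.fromSpec ⟨m, hm.isPrime⟩ ∈ (𝓘W.support : Set Z) ∩ U.1 := by
          rw [Scheme.IdealSheafData.coe_support_inter 𝓘W U, ← U.2.fromSpec_image_zeroLocus]
          exact ⟨_, hmle, rfl⟩
        exact (hle h2.2).2 h2.1
      obtain ⟨n, hn⟩ := exists_pow_mul_mem 𝓘W 𝓘Y b b' k hb hb' hk U y' hxU₁ h1 z hz
      rw [map_one, one_pow, one_mul, hJU, Ideal.map_ofList] at hn
      exact hn
    · refine Ideal.span_le.2 fun s hs => ?_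
      obtain ⟨t, ht, rfl⟩ := List.mem_map.1 hs
      exact pull_mem_ker 𝓘Y b b' k hk U y' hxU₁ (hJU ▸ Ideal.subset_span ht)

end Groth.Agent.H11StrictReg
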